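import Cfsg.Agent.Lib.RankThree.Top

/-!
The fixed line of the automizer of an elementary abelian essential subgroup of order `p³` on which
`S` acts by transvections with one centre.
-/

set_option autoImplicit false
set_option linter.style.haveILetI false
set_option linter.unusedSectionVars false

namespace CfsgLib.RankThreePair.Fus

open Cfsg Cfsg.FusionSystem Subgroup CfsgLib.Fusion CfsgLib.Fusion.CubeGL
open scoped Matrix commutatorElement

section Linear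

open Matrix

variable {p : ℕ} [hp : Fact p.Prime] {X : Subgroup (GL (Fin 3) (ZMod p))}

theorem tr_pow {a α : Fin 3 → ZMod p} (h : α ⬝ᵥ a = 0) (n : ℕ) :
    tr a α ^ n = tr a ((n : ZMod p) • α) := by
  induction n with
  | zero => rw [pow_zero, Nat.cast_zero, zero_smul, tr, vecMulVec_zero, add_zero]
  | succ n ih =>
    rw [pow_succ, ih, tr_mul_tr (by rw [smul_dotProduct, h, smul_zero]), Nat.cast_succ, add_smul,
      one_smul]

/-- A transvection commuting with `tr v φ` is a multiple of it. -/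
theorem dot_eq_zero_of_commute {v φ a α u : Fin 3 → ZMod p} (hφv : φ ⬝ᵥ v = 0) (hv : v ≠ 0)
    (hφ : φ ≠ 0) (hφu : φ ⬝ᵥ u = 0) (hnormal : ∀ N : Subgroup X, N.Normal → IsPGroup p N → N = ⊥)
    (hpair : NoPair X) (ht : Mem X (tr v φ)) (hαa : α ⬝ᵥ a = 0) (ha : a ≠ 0)
    (hs : Mem X (tr a α)) (h1 : φ ⬝ᵥ a = 0) (h2 : α ⬝ᵥ v = 0) : α ⬝ᵥ u = 0 := by
  obtain ⟨f⟩ := exists_opposite hφv hv hφ ht hnormal hpair
  obtain ⟨σ, hσ, hσa⟩ := hs
  have hex : ∃ s : ZMod p, (σ : Matrix (Fin 3) (Fin 3) (ZMod p)) = tr v (s • φ) := by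
    by_contra hne
    push Not at hne
    refine false_of_commute hφv hv ht f hσ (k := 1) (Units.ext ?_) ?_ hne hpair
    · rw [Units.val_pow_eq_pow_val, pow_one, hσa, tr_pow hαa, ZMod.natCast_self, zero_smul, tr,
        vecMulVec_zero, add_zero, Units.val_one]
    · rw [hσa]
      exact RankThree.Linear.tr_comm h2 h1
  obtain ⟨s, hsv⟩ := hex
  have h := congrArg (· *ᵥ u) (hσa.symm.trans hsv)
  simp only [tr_apply, smul_dotProduct, hφu, smul_zero, zero_smul, add_zero, add_eq_left,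
    smul_eq_zero] at h
  exact h.resolve_right ha

/-- Every transvection fixes the vector fixed by two opposite ones. -/
theorem dot_eq_zero {v φ : Fin 3 → ZMod p} (hφv : φ ⬝ᵥ v = 0) (hv : v ≠ 0) (hφ : φ ≠ 0)
    (hnormal : ∀ N : Subgroup X, N.Normal → IsPGroup p N → N = ⊥) (hpair : NoPair X)
    (ht : Mem X (tr v φ)) (f : Frame X v φ) {a α : Fin 3 → ZMod p} (hαa : α ⬝ᵥ a = 0) (ha : a ≠ 0)
    (hs : Mem X (tr a α)) : α ⬝ᵥ f.u = 0 := by
  by_cases hα : α = 0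
  · rw [hα, zero_dotProduct]
  by_cases hd : α ⬝ᵥ v = 0
  · refine dot_eq_zero_of_commute hφv hv hφ f.φu hnormal hpair ht hαa ha hs ?_ hd
    by_contra h
    exact hpair a α v φ hαa hφv hd h hα hv hs ht
  set s0 : ZMod p := -(α ⬝ᵥ f.v') / (α ⬝ᵥ v)
  set w := f.v' + s0 • v with hw
  set ψ := f.φ' - s0 • φ with hψ
  have hαw : α ⬝ᵥ w = 0 := by
    rw [hw, dotProduct_add, dotProduct_smul, smul_eq_mul, div_mul_cancel₀ _ hd, add_neg_cancel]
  have hψw : ψ ⬝ᵥ w = 0 := by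
    simp [hw, hψ, sub_dotProduct, dotProduct_add, dotProduct_smul, f.φ'v', f.φ'v, f.φv', hφv]
  have hψu : ψ ⬝ᵥ f.u = 0 := by simp [hψ, sub_dotProduct, f.φ'u, f.φu]
  have hw0 : w ≠ 0 := fun h => by
    have h1 := congrArg (φ ⬝ᵥ ·) h
    simp [hw, dotProduct_add, dotProduct_smul, f.φv', hφv] at h1
  have hψ0 : ψ ≠ 0 := fun h => by
    have h1 := congrArg (· ⬝ᵥ v) h
    simp [hψ, sub_dotProduct, f.φ'v, hφv] at h1
  have hmem : Mem X (tr w ψ) := by
    have h1 : tr v (s0 • φ) * tr f.v' f.φ' * tr v ((-s0) • φ) = tr w ψ := by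
      refine ext_mulVec fun x => ?_
      simp only [← mulVec_mulVec, tr_apply, hw, hψ, dotProduct_add, dotProduct_smul,
        sub_dotProduct, smul_dotProduct, smul_eq_mul, hφv, f.φ'v, f.φv', mul_zero, mul_one,
        add_zero]
      module
    exact h1 ▸ ((ht.tr_smul hφv _).mul f.mem).mul (ht.tr_smul hφv _)
  refine dot_eq_zero_of_commute hψw hw0 hψ0 hψu hnormal hpair hmem hαa ha hs ?_ hαw
  by_contra h
  exact hpair a α w ψ hαa hψw hαw h hα hw0 hs hmem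

/-- The vector fixed by two opposite transvections spans an invariant line. -/
theorem exists_smul_u {v φ : Fin 3 → ZMod p} (hφv : φ ⬝ᵥ v = 0) (hv : v ≠ 0) (hφ : φ ≠ 0)
    (hnormal : ∀ N : Subgroup X, N.Normal → IsPGroup p N → N = ⊥) (hpair : NoPair X)
    (ht : Mem X (tr v φ)) (f : Frame X v φ) {g : GL (Fin 3) (ZMod p)} (hg : g ∈ X) :
    ∃ k : ZMod p, (g : Matrix (Fin 3) (Fin 3) (ZMod p)) *ᵥ f.u = k • f.u := by
  have hfix : ∀ a α : Fin 3 → ZMod p, α ⬝ᵥ a = 0 → a ≠ 0 → Mem X (tr a α) →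
      α ⬝ᵥ ((g : Matrix (Fin 3) (Fin 3) (ZMod p)) *ᵥ f.u) = 0 := by
    intro a α hαa ha hm
    have h := hm.conj (inv_mem hg)
    rw [inv_inv] at h
    rw [dotProduct_mulVec]
    refine dot_eq_zero hφv hv hφ hnormal hpair ht f ?_ (fun h0 => ha ?_) h
    · rw [← dotProduct_mulVec, mulVec_mulVec, Units.mul_inv, one_mulVec, hαa]
    · have h1 := congrArg ((g : Matrix (Fin 3) (Fin 3) (ZMod p)) *ᵥ ·) h0
      simpa using h1
  have h1 := hfix v φ hφv hv ht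
  have h2 := hfix f.v' f.φ' f.φ'v' (fun h => by
    have := f.φv'; rw [h, dotProduct_zero] at this; exact zero_ne_one this) f.mem
  obtain ⟨k, hk⟩ := f.expand hφv ((g : Matrix (Fin 3) (Fin 3) (ZMod p)) *ᵥ f.u)
  exact ⟨k, by rw [h1, h2, zero_smul, zero_smul, zero_add, add_zero] at hk; exact hk⟩

end Linear

section Essential

open Matrix

variable {Ω : Type*} [Group Ω] {S : Subgroup Ω} [Finite S] {p : ℕ} [hp : Fact p.Prime]
  {F : FusionSystem S} {E : Subgroup Ω}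

/-- The invariant line and an extendable automorphism inverting the commutators. -/
theorem exists_line (hS : IsPGroup p S) (hF : F.IsSaturated p) (hE : F.IsEssential p E)
    (hn : S ≤ Subgroup.normalizer (E : Set Ω)) (hab : ∀ x ∈ E, ∀ y ∈ E, x * y = y * x)
    (hexp : ∀ x ∈ E, x ^ p = 1) (hcard : Nat.card E = p ^ 3) (hidx : (E.subgroupOf S).index = p)
    {c : Ω} (hc : c ∈ E) (hc1 : c ≠ 1) (hcc : ∀ a ∈ S, a * c * a⁻¹ = c)
    (hcomm : ∀ a ∈ S, ∀ x ∈ E, ∃ i : ℕ, a * x * a⁻¹ = x * c ^ i) :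
    ∃ h ∈ E, h ∉ Subgroup.zpowers c ∧ (∀ a ∈ S, a * h * a⁻¹ = h) ∧
      (∀ α ∈ F.autGroup E, ∀ x : E, (x : Ω) ∈ Subgroup.zpowers h →
        ((α x : E) : Ω) ∈ Subgroup.zpowers h) ∧
      ∃ g, IsMap F S g ∧ img S g = S ∧ g c = c⁻¹ ∧ g h = h := by
  classical
  have hES := hE.1.1
  haveI := finite_of_le hES
  haveI := finite_normalizerIn (S := S) (P := E)
  have hEp : IsPGroup p E := hS.to_le hES
  have hfr : frattini E = ⊥ := le_bot_iff.1 (CfsgLib.Transfer.frattini_le_of_elementary_quotient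
    (p := p) _ (fun x y => Subgroup.mem_bot.2 (commutatorElement_eq_one_iff_mul_comm.2
      (Subtype.ext (hab _ x.2 _ y.2)))) fun x => Subgroup.mem_bot.2 (Subtype.ext (hexp _ x.2)))
  obtain ⟨ε, ρ, hε, hadd, hker, hρ⟩ := RankThree.Top.exists_coord hEp
    (by rw [hfr, Subgroup.index_bot, hcard])
  obtain ⟨hnormal, hpair, -, hkiff, hmemX⟩ :=
    RankThree.Top.image_facts hS hF hE hε hadd hker hρ
  have hinj : Function.Injective ε := fun x y h => by
    have h1 : ε (x⁻¹ * y) = 0 := by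
      rw [hadd, RankThree.Top.coord_inv hadd, h, neg_add_cancel]
    rw [hker, hfr, Subgroup.mem_bot, inv_mul_eq_one] at h1
    exact h1
  have hpow := RankThree.Top.coord_pow (ε := ε) hadd
  set v := ε ⟨c, hc⟩ with hvdef
  have hv : v ≠ 0 := fun h => hc1 (by
    have := (hker _).1 h
    rw [hfr, Subgroup.mem_bot] at this
    exact congrArg Subtype.val this)
  obtain ⟨a₀, ha₀, ha₀E⟩ := SetLike.exists_of_lt (lt_of_essential hS hF hE)
  set M : Matrix (Fin 3) (Fin 3) (ZMod p) :=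
    ↑(ρ (RankThree.Top.act S E ⟨a₀, ha₀, hn ha₀⟩)) with hMdef
  have hMx : ∀ x, ∃ k : ZMod p, M *ᵥ x = x + k • v := fun x => by
    obtain ⟨y, rfl⟩ := hε x
    obtain ⟨k, hk⟩ := hcomm a₀ ha₀ y y.2
    refine ⟨k, ?_⟩
    rw [hMdef, hρ, show RankThree.Top.act S E ⟨a₀, ha₀, hn ha₀⟩ y = y * ⟨c, hc⟩ ^ k from
      Subtype.ext (by rw [RankThree.Top.act_apply]; simpa using hk), hadd, hpow]
  obtain ⟨i₀, hi₀⟩ := Function.ne_iff.1 hv
  rw [Pi.zero_apply] at hi₀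
  set φ : Fin 3 → ZMod p := (v i₀)⁻¹ • (fun j => (M - 1) i₀ j) with hφdef
  have hMtr : M = tr v φ := ext_mulVec fun x => by
    obtain ⟨k, hk⟩ := hMx x
    rw [tr_apply, hk]
    congr 2
    rw [hφdef, smul_dotProduct, show (fun j => (M - 1) i₀ j) ⬝ᵥ x = ((M - 1) *ᵥ x) i₀ from rfl,
      sub_mulVec, one_mulVec, hk]
    simp [mul_comm k (v i₀), ← mul_assoc, inv_mul_cancel₀ hi₀]
  have hφv : φ ⬝ᵥ v = 0 := by
    have h1 : M *ᵥ v = v := by
      rw [hMdef, hvdef, hρ, show RankThree.Top.act S E ⟨a₀, ha₀, hn ha₀⟩ ⟨c, hc⟩ = ⟨c, hc⟩ from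
        Subtype.ext (hcc a₀ ha₀)]
    rw [hMtr, tr_apply, add_eq_left, smul_eq_zero] at h1
    exact h1.resolve_right hv
  have hφ : φ ≠ 0 := fun h => ha₀E ((hkiff ⟨a₀, ha₀, hn ha₀⟩).1 (Units.ext (by
    rw [← hMdef, hMtr, h, tr, vecMulVec_zero, add_zero, Units.val_one])))
  have ht : Mem ((F.autGroup E).map ρ) (tr v φ) := ⟨_, hmemX _, hMdef.symm.trans hMtr⟩
  clear_value φ
  obtain ⟨f⟩ := exists_opposite hφv hv hφ ht hnormal hpair
  obtain ⟨⟨h, hh⟩, hhu⟩ := hε f.u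
  have hact : ∀ (a : Ω) (ha : a ∈ S), ∃ n : ZMod p,
      (ρ (RankThree.Top.act S E ⟨a, ha, hn ha⟩) : Matrix (Fin 3) (Fin 3) (ZMod p)) =
        tr v (n • φ) := by
    intro a ha
    haveI : (E.subgroupOf S).Normal := ⟨fun x hx s => ((hn s.2) (x : Ω)).1 hx⟩
    obtain ⟨i, -, e, he, hae⟩ := RankThree.exists_pow_mul (B := (⊤ : Subgroup S))
      (by rw [Subgroup.relIndex_top_right, hidx]) (Subgroup.mem_top ⟨a₀, ha₀⟩) ha₀E
      (Subgroup.mem_top ⟨a, ha⟩)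
    refine ⟨i, ?_⟩
    have he' : ρ (RankThree.Top.act S E ⟨(e : Ω), e.2, hn e.2⟩) = 1 := (hkiff _).2 he
    rw [show (⟨a, ha, hn ha⟩ : normalizerIn S E) =
        ⟨a₀, ha₀, hn ha₀⟩ ^ i * ⟨(e : Ω), e.2, hn e.2⟩ from
      Subtype.ext (by simpa using congrArg Subtype.val hae), map_mul, map_mul, map_pow, map_pow,
      he', mul_one, Units.val_pow_eq_pow_val, ← hMdef, hMtr, tr_pow hφv]
  refine ⟨h, hh, fun hmem => ?_, fun a ha => ?_, fun α hα x hx => ?_, ?_⟩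
  · haveI : Finite (Subgroup.zpowers c) := finite_of_le ((Subgroup.zpowers_le.2 hc).trans hES)
    obtain ⟨k, hk⟩ := Subgroup.mem_zpowers_iff.1 hmem
    obtain ⟨n, hn'⟩ : ∃ n : ℕ, c ^ n = h := by
      obtain ⟨n, hn'⟩ := (Submonoid.mem_powers_iff _ _).1
        (mem_powers_iff_mem_zpowers.2 ⟨k, Subtype.ext hk⟩ :
          (⟨h, hES hh⟩ : S) ∈ Submonoid.powers (⟨c, hES hc⟩ : S))
      exact ⟨n, congrArg Subtype.val hn'⟩
    have h1 : ε ⟨h, hh⟩ = (n : ZMod p) • v := by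
      rw [hvdef, ← hpow]; congr 1; exact Subtype.ext hn'.symm
    rw [hhu] at h1
    have h2 := congrArg (f.φ' ⬝ᵥ ·) h1
    simp [dotProduct_smul, f.φ'u, f.φ'v] at h2
    rw [← h2, zero_smul] at h1
    exact f.u_ne h1
  · obtain ⟨n, hn'⟩ := hact a ha
    have h1 := hinj (a₁ := RankThree.Top.act S E ⟨a, ha, hn ha⟩ ⟨h, hh⟩) (a₂ := ⟨h, hh⟩) (by
      rw [← hρ, hhu, hn', tr_apply, smul_dotProduct, f.φu, smul_zero, zero_smul, add_zero])
    exact congrArg Subtype.val h1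
  · obtain ⟨k, hk⟩ := exists_smul_u hφv hv hφ hnormal hpair ht f (mem_map_of_mem ρ hα)
    rw [← hhu, hρ, ← ZMod.natCast_zmod_val k, ← hpow] at hk
    have h1 : ((α ⟨h, hh⟩ : E) : Ω) = h ^ k.val := by
      simpa using congrArg Subtype.val (hinj hk)
    obtain ⟨j, hj⟩ := Subgroup.mem_zpowers_iff.1 hx
    rw [show x = ⟨h, hh⟩ ^ j from Subtype.ext (by simpa using hj.symm), map_zpow,
      Subgroup.coe_zpow, h1]
    exact zpow_mem (pow_mem (Subgroup.mem_zpowers h) _) _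
  obtain ⟨g, ⟨θ, hθ, rfl⟩, g1, g2, g3⟩ := f.torus hφv ht (neg_ne_zero.2 one_ne_zero : (-1 : ZMod p) ≠ 0)
  have hθc : θ ⟨c, hc⟩ = ⟨c, hc⟩⁻¹ := hinj (by
    rw [← hρ, ← hvdef, g1, RankThree.Top.coord_inv hadd, ← hvdef, neg_smul, one_smul])
  have hθh : θ ⟨h, hh⟩ = ⟨h, hh⟩ := hinj (by rw [← hρ, hhu, g2])
  have hφD : ∀ x, φ ⬝ᵥ ((ρ θ : Matrix (Fin 3) (Fin 3) (ZMod p)) *ᵥ x) = -(φ ⬝ᵥ x) := by
    intro x
    obtain ⟨k, hk⟩ := f.expand hφv x
    conv_lhs => rw [hk]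
    simp [mulVec_add, mulVec_smul, g1, g2, g3, dotProduct_add, hφv, f.φu, f.φv', inv_neg]
  set θf := toFun (E.subtype.comp θ.toMonoidHom)
  have hθm := isMap_of_autGroup hES hθ
  obtain ⟨g, hg, hgE⟩ := receptive_extend (R := S) (receptive_of_fullyNormalized hS hF hE.2.1) hθm
    (img_toFun_aut θ) hES fun a ha => ⟨ha, hn ha, a, ha, fun x hx => by
      obtain ⟨n, hn'⟩ := hact a ha
      have hax : a * x * a⁻¹ ∈ E := ((hn ha) x).1 hx
      rw [toFun_aut_apply θ hax, toFun_aut_apply θ hx]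
      have h1 : θ (RankThree.Top.act S E ⟨a, ha, hn ha⟩ ⟨x, hx⟩) =
          RankThree.Top.act S E ⟨a, ha, hn ha⟩ (θ ⟨x, hx⟩) := hinj (by
        rw [← hρ, ← hρ, ← hρ (RankThree.Top.act S E ⟨a, ha, hn ha⟩), ← hρ θ ⟨x, hx⟩, hn', tr_apply,
          tr_apply, mulVec_add, mulVec_smul, g1, smul_dotProduct, smul_dotProduct]
        rw [hφD]
        simp)
      exact congrArg Subtype.val h1⟩
  refine ⟨g, hg, eq_of_le_of_card_le hg.img_le hg.card_img.ge, ?_, ?_⟩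
  · rw [hgE c hc, toFun_aut_apply θ hc, hθc]
    rfl
  · rw [hgE h hh, toFun_aut_apply θ hh, hθh]

end Essential

end CfsgLib.RankThreePair.Fus
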