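import Cfsg.Agent.Lib.RankThreePair.Defs
import Cfsg.Agent.Lib.RankThree.Basic
import Cfsg.Agent.Lib.Transfer.ClassTwo

/-!
The groups `p^(1+2) × C`.
-/

set_option autoImplicit false
set_option linter.style.haveILetI false
set_option linter.unusedSectionVars false

namespace CfsgLib.RankThreePair.Fus

open Subgroup
open scoped commutatorElement

variable {T : Type*} [Group T] [Finite T] {p : ℕ} [hp : Fact p.Prime]

theorem sectional_two_of_cube (hcard : Nat.card T ≤ p ^ 3) {x y : T} (hxy : x * y ≠ y * x) :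
    Cfsg.SectionalPRankLE p 2 T := by
  intro H N _ A hA hAp
  by_contra hgt
  rw [not_le] at hgt
  obtain ⟨k, hk⟩ := IsPGroup.iff_card.1 (show IsPGroup p A from
    fun a => ⟨1, Subtype.ext (by simpa using hAp a a.2)⟩)
  rw [hk] at hgt
  have hk3 := (Nat.pow_lt_pow_iff_right hp.out.one_lt).1 hgt
  have h1 : Nat.card A ≤ Nat.card (H ⧸ N) :=
    Nat.le_of_dvd Nat.card_pos (Subgroup.card_subgroup_dvd_card A)
  have h2 : Nat.card H = Nat.card (H ⧸ N) * Nat.card N :=
    Subgroup.card_eq_card_quotient_mul_card_subgroup N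
  have h3 : Nat.card H ≤ Nat.card T := Nat.le_of_dvd Nat.card_pos (Subgroup.card_subgroup_dvd_card H)
  have h4 : p ^ 3 ≤ Nat.card A := hk ▸ Nat.pow_le_pow_right hp.out.pos hk3
  have h5 : Nat.card (H ⧸ N) * 1 ≤ Nat.card (H ⧸ N) * Nat.card N :=
    Nat.mul_le_mul_left _ Nat.card_pos
  have hHT : H = ⊤ := Subgroup.eq_top_of_card_eq _ (by omega)
  have hN : N = ⊥ := Subgroup.card_eq_one.1 (by
    have h6 : Nat.card (H ⧸ N) * Nat.card N = Nat.card (H ⧸ N) * 1 := by omega
    exact Nat.eq_of_mul_eq_mul_left Nat.card_pos h6)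
  have hAT : A = ⊤ := Subgroup.eq_top_of_card_eq _ (by omega)
  subst hHT hN hAT
  refine hxy ?_
  have h7 := hA.is_comm.comm ⟨QuotientGroup.mk ⟨x, mem_top x⟩, mem_top _⟩
    ⟨QuotientGroup.mk ⟨y, mem_top y⟩, mem_top _⟩
  have h8 : (QuotientGroup.mk (⟨x, mem_top x⟩ * ⟨y, mem_top y⟩ : (⊤ : Subgroup T)) :
      (⊤ : Subgroup T) ⧸ (⊥ : Subgroup (⊤ : Subgroup T))) =
      QuotientGroup.mk (⟨y, mem_top y⟩ * ⟨x, mem_top x⟩) := congrArg Subtype.val h7
  rw [QuotientGroup.eq, Subgroup.mem_bot, inv_mul_eq_one] at h8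
  exact congrArg Subtype.val h8

theorem index_W (hT : IsPGroup p T) (P : Pair p T) : P.W.index = p ^ 2 := by
  haveI := P.A.normal
  haveI := P.B.normal
  obtain ⟨k, hk⟩ := hT.index P.W
  have h1 : P.W.index ≤ p ^ 2 := by
    refine Subgroup.index_inf_le.trans ?_
    rw [P.A.index, P.B.index, pow_two]
  rw [hk] at h1 ⊢
  have h2 := (Nat.pow_le_pow_iff_right hp.out.one_lt).1 h1
  have h3 := relIndex_mul_index (show P.W ≤ P.A.E from inf_le_left)
  rw [P.A.index, hk] at h3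
  have h4 : P.W.relIndex P.A.E ≠ 1 := fun h => P.ne (by
    have hle : P.A.E ≤ P.B.E := le_trans (relIndex_eq_one.1 h) inf_le_right
    have h5 := relIndex_mul_index hle
    rw [P.A.index, P.B.index] at h5
    exact le_antisymm hle (relIndex_eq_one.1
      (mul_right_cancel₀ hp.out.ne_zero (h5.trans (one_mul p).symm))))
  have h0 : 2 ≤ k := by
    by_contra h
    interval_cases k
    · rw [pow_zero] at h3
      exact hp.out.ne_one (Nat.eq_one_of_mul_eq_one_left h3)
    · rw [pow_one, Nat.mul_eq_right hp.out.ne_zero] at h3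
      exact h4 h3
  rw [show k = 2 by omega]

/-- The centre, the commutators and the powers. -/
theorem pc_facts (hT : IsPGroup p T) (hp2 : p ≠ 2) (P : Pair p T) (h : OutPC P) :
    ∃ c g : T, c ^ p = 1 ∧ c ∈ center T ∧ g ∈ center T ∧ c ∉ zpowers g ∧
      center T = zpowers g ⊔ zpowers c ∧ (center T).index = p ^ 2 ∧
      (∀ x y : T, ⁅x, y⁆ ∈ zpowers c) ∧ (∃ x y : T, ⁅x, y⁆ = c) ∧
      ∀ x : T, x ^ p ∈ zpowers (g ^ p) := by
  obtain ⟨C, a, b, hC, hCZ, -, haA, hb, hbB, hap, hbp, hcc, hcp, hcC, hWZ, hW⟩ := h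
  obtain ⟨g, rfl⟩ := (Subgroup.isCyclic_iff_exists_zpowers_eq_top _).1 hC
  set c := ⁅b, a⁆ with hcdef
  have hZ : center T = zpowers g ⊔ zpowers c := hWZ ▸ hW
  haveI hNc : (zpowers c).Normal :=
    ⟨fun n hn g => by
      rw [Subgroup.mem_center_iff.1 (Subgroup.zpowers_le.2 hcc hn) g, mul_inv_cancel_right]
      exact hn⟩
  haveI := P.A.normal
  have hidx := index_W hT P
  haveI hWn : P.W.Normal := hWZ ▸ inferInstance
  have hrel : P.W.relIndex P.A.E = p := by
    have h3 := relIndex_mul_index (show P.W ≤ P.A.E from inf_le_left)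
    rw [P.A.index, hidx, pow_two] at h3
    exact mul_right_cancel₀ hp.out.ne_zero h3
  have hdec : ∀ t : T, ∃ i j : ℕ, ∃ w ∈ center T, t = a ^ i * (b ^ j * w) := fun t => by
    obtain ⟨i, -, e, he, rfl⟩ := RankThree.exists_pow_mul (A := P.A.E) (B := ⊤)
      (by rw [relIndex_top_right, P.A.index]) (mem_top a) haA (mem_top t)
    obtain ⟨j, -, w, hw, rfl⟩ := RankThree.exists_pow_mul (A := P.W) hrel hb
      (fun h => hbB h.2) he
    exact ⟨i, j, w, hWZ ▸ hw, rfl⟩
  have hcomm : ∀ x y : T, ⁅x, y⁆ ∈ zpowers c := by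
    intro x y
    rw [← QuotientGroup.eq_one_iff (N := zpowers c), ← QuotientGroup.mk'_apply,
      map_commutatorElement, commutatorElement_eq_one_iff_commute]
    set π := QuotientGroup.mk' (zpowers c)
    have hab : Commute (π b) (π a) := by
      rw [← commutatorElement_eq_one_iff_commute, ← map_commutatorElement]
      exact (QuotientGroup.eq_one_iff _).2 (mem_zpowers c)
    have hw : ∀ w ∈ center T, ∀ q, Commute (π w) q := fun w hw q => by
      obtain ⟨t, rfl⟩ := QuotientGroup.mk'_surjective _ q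
      exact Commute.map (Subgroup.mem_center_iff.1 hw t).symm π
    obtain ⟨i, j, w, hw1, rfl⟩ := hdec x
    obtain ⟨k, l, w', hw2, rfl⟩ := hdec y
    simp only [map_mul, map_pow]
    refine Commute.mul_left (Commute.mul_right ?_ (Commute.mul_right ?_ (hw _ hw2 _).symm))
      (Commute.mul_left (Commute.mul_right ?_ (Commute.mul_right ?_ (hw _ hw2 _).symm)) (hw _ hw1 _))
    · exact (Commute.refl _).pow_pow _ _
    · exact hab.symm.pow_pow _ _
    · exact hab.pow_pow _ _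
    · exact (Commute.refl _).pow_pow _ _
  have hcz : ∀ x y : T, ⁅x, y⁆ ∈ center T := fun x y => Subgroup.zpowers_le.2 hcc (hcomm x y)
  refine ⟨c, g, hcp, hcc, hCZ (mem_zpowers g), hcC, hZ, hWZ ▸ hidx, hcomm, ⟨b, a, rfl⟩, ?_⟩
  intro t
  have hkill : ∀ x y : T, ⁅x, y⁆ ^ p.choose 2 = 1 := fun x y => by
    obtain ⟨k, hk⟩ := Subgroup.mem_zpowers_iff.1 (hcomm x y)
    obtain ⟨m, hm⟩ := Nat.Prime.dvd_choose_self hp.out (k := 2) (by norm_num)
      (lt_of_le_of_ne hp.out.two_le (Ne.symm hp2))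
    rw [hm, pow_mul, ← hk, ← zpow_natCast (c ^ k), ← zpow_mul, mul_comm, zpow_mul, zpow_natCast,
      hcp, one_zpow, one_pow]
  obtain ⟨i, j, w, hw, rfl⟩ := hdec t
  rw [hZ] at hw
  obtain ⟨z, hz, d, hd, rfl⟩ := Subgroup.mem_sup_of_normal_right.1 hw
  obtain ⟨k, rfl⟩ := Subgroup.mem_zpowers_iff.1 hz
  obtain ⟨m, rfl⟩ := Subgroup.mem_zpowers_iff.1 hd
  rw [Transfer.mul_pow_class_two hcz, Transfer.mul_pow_class_two hcz,
    Transfer.mul_pow_class_two hcz, hkill, hkill, hkill, mul_one, mul_one, mul_one, ← pow_mul,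
    mul_comm i p, pow_mul, hap, one_pow, one_mul, ← pow_mul, mul_comm j p, pow_mul, hbp, one_pow,
    one_mul, ← zpow_natCast (c ^ m), ← zpow_mul, mul_comm m, zpow_mul, zpow_natCast, hcp, one_zpow,
    mul_one, ← zpow_natCast (g ^ k), ← zpow_mul, mul_comm k, zpow_mul, zpow_natCast]
  exact zpow_mem (mem_zpowers _) k

end CfsgLib.RankThreePair.Fus
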