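import Cfsg.Agent.Lib.RankThreePair.Fusion.Index
import Cfsg.Agent.Lib.RankThreePair.Fusion.Fixed
import Cfsg.Agent.Lib.RankThreePair.Fusion.Group

/-!
No saturated fusion system without normal subgroup on `p^(1+2) × C` with normal essential subgroups.
-/

set_option autoImplicit false
set_option linter.style.haveILetI false
set_option linter.unusedSectionVars false

namespace CfsgLib.RankThreePair.Fus

open Cfsg Cfsg.FusionSystem Subgroup CfsgLib.Fusion
open scoped commutatorElement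

variable {Ω : Type*} [Group Ω] {S : Subgroup Ω} [Finite S] {p : ℕ} [hp : Fact p.Prime]
  {F : FusionSystem S}

theorem coe_mem_zpowers {x y : S} (h : x ∈ zpowers y) : (x : Ω) ∈ zpowers (y : Ω) := by
  obtain ⟨k, hk⟩ := Subgroup.mem_zpowers_iff.1 h
  exact ⟨k, by simpa using congrArg Subtype.val hk⟩

theorem center_mem_centric {E : Subgroup Ω} (hE : F.IsCentric E) {z : S} (hz : z ∈ center S) :
    (z : Ω) ∈ E :=
  hE.2 E (isConj_refl hE.1) ⟨z.2, fun x hx =>
    congrArg Subtype.val (Subgroup.mem_center_iff.1 hz ⟨x, hE.1 hx⟩)⟩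

/-- A cyclic central subgroup preserved by the essential subgroups and by `S` is trivial. -/
theorem false_of_invariant (hS : IsPGroup p S) (hF : F.IsSaturated p) (hO : F.core = ⊥) {h : S}
    (hh : h ∈ center S) (h1 : h ≠ 1)
    (hinv : ∀ Q, (Q = S ∨ F.IsEssential p Q) → ∀ α ∈ F.autGroup Q, ∀ hm : (h : Ω) ∈ Q,
      ((α ⟨h, hm⟩ : Q) : Ω) ∈ zpowers (h : Ω)) : False := by
  have hn : F.IsNormal (zpowers (h : Ω)) := by
    refine isNormal_of_alperin hS hF (Subgroup.zpowers_le.2 h.2) fun Q hQ => ?_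
    have hm : (h : Ω) ∈ Q := by
      rcases hQ with rfl | hQ
      · exact h.2
      · exact center_mem_centric hQ.1 hh
    refine ⟨Subgroup.zpowers_le.2 hm, fun α hα x hx => ?_⟩
    obtain ⟨k, hk⟩ := Subgroup.mem_zpowers_iff.1 hx
    rw [show x = ⟨h, hm⟩ ^ k from Subtype.ext (by simpa using hk.symm), map_zpow,
      Subgroup.coe_zpow]
    exact zpow_mem (hinv Q hQ α hα hm) k
  refine h1 (Subtype.ext ?_)
  exact Subgroup.mem_bot.1 (hO ▸ IsNormal.le_core hn (Subgroup.mem_zpowers _))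

theorem card_sup_zpowers {u v : S} (hu : u ∈ center S) (hup : u ^ p = 1) (hu1 : u ≠ 1)
    (hvp : v ^ p = 1) (hv : v ∉ zpowers u) :
    Nat.card ↥(zpowers u ⊔ zpowers v) = p ^ 2 := by
  haveI : (zpowers u).Normal := ⟨fun n hn g => by
    rw [Subgroup.mem_center_iff.1 (Subgroup.zpowers_le.2 hu hn) g, mul_inv_cancel_right]
    exact hn⟩
  have hv1 : v ≠ 1 := fun h => hv (h ▸ one_mem _)
  have hcu : Nat.card (zpowers u) = p := by rw [Nat.card_zpowers, orderOf_eq_prime hup hu1]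
  have hcv : Nat.card (zpowers v) = p := by rw [Nat.card_zpowers, orderOf_eq_prime hvp hv1]
  have hdis : zpowers u ⊓ zpowers v = ⊥ := by
    have h2 : Nat.card ↥(zpowers u ⊓ zpowers v) ∣ p :=
      hcv ▸ Subgroup.card_dvd_of_le inf_le_right
    rcases (Nat.dvd_prime hp.out).1 h2 with h | h
    · exact Subgroup.card_eq_one.1 h
    · refine absurd ?_ hv
      have h3 := Subgroup.eq_of_le_of_card_ge (inf_le_right : zpowers u ⊓ zpowers v ≤ _)
        (by rw [hcv, h])
      exact (h3.ge (mem_zpowers v)).1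
  have h1 : (zpowers u).relIndex (zpowers v) = p := by
    rw [← Subgroup.inf_relIndex_right, hdis, Subgroup.relIndex_bot_left, hcv]
  have h2 : (zpowers u).relIndex (zpowers u ⊔ zpowers v) = p := by
    rw [sup_comm, Subgroup.relIndex_sup_right, h1]
  have h3 := Subgroup.relIndex_mul_relIndex ⊥ (zpowers u) (zpowers u ⊔ zpowers v) bot_le le_sup_left
  rw [Subgroup.relIndex_bot_left, Subgroup.relIndex_bot_left, h2, hcu] at h3
  rw [← h3, pow_two]

theorem aut_center {T : Type*} [Group T] (α : MulAut T) {z : T} (hz : z ∈ center T) :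
    α z ∈ center T := by
  refine Subgroup.mem_center_iff.2 fun y => ?_
  obtain ⟨y, rfl⟩ := α.surjective y
  rw [← map_mul, ← map_mul, Subgroup.mem_center_iff.1 hz y]

/-- Two automorphisms inverting `c` have the same fixed line. -/
theorem mem_zpowers_of_inverters (hS : IsPGroup p S) (hF : F.IsSaturated p) (hp2 : p ≠ 2)
    {c h h' : S} (hc : c ∈ center S) (hcp : c ^ p = 1) (hh' : h' ∈ center S)
    (hgen : h' ∈ zpowers h ⊔ zpowers c) {σ σ' : MulAut S} (hσ : σ ∈ F.autGroup S)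
    (hσ' : σ' ∈ F.autGroup S) (h1 : σ c = c⁻¹) (h2 : σ h = h) (h3 : σ' c = c⁻¹) (h4 : σ' h' = h') :
    h' ∈ zpowers h := by
  haveI : (zpowers c).Normal := ⟨fun n hn g => by
    rw [Subgroup.mem_center_iff.1 (Subgroup.zpowers_le.2 hc hn) g, mul_inv_cancel_right]
    exact hn⟩
  obtain ⟨y, hy, d, hd, rfl⟩ := Subgroup.mem_sup_of_normal_right.1 hgen
  suffices hd1 : d = 1 by simpa [hd1] using hy
  obtain ⟨j, rfl⟩ := Subgroup.mem_zpowers_iff.1 hy
  obtain ⟨m, rfl⟩ := Subgroup.mem_zpowers_iff.1 hd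
  set d := c ^ m
  have hσd : σ d = d⁻¹ := by rw [map_zpow, h1, inv_zpow]
  have hσ'd : σ' d = d⁻¹ := by rw [map_zpow, h3, inv_zpow]
  have hdp : d ^ p = 1 := by
    rw [← zpow_natCast, ← zpow_mul, mul_comm, zpow_mul, zpow_natCast, hcp, one_zpow]
  set τ := σ * σ'
  have hτd : τ d = d := by rw [MulAut.mul_apply, hσ'd, map_inv, hσd, inv_inv]
  set z := d⁻¹ * d⁻¹ with hz
  have hτh : τ (h ^ j * d) = h ^ j * d * z := by
    rw [MulAut.mul_apply, h4, map_mul, map_zpow, h2, hσd, hz, mul_assoc, mul_inv_cancel_left]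
  have hτz : τ z = z := by rw [hz, map_mul, map_inv, hτd]
  have hfin : Finite (MulAut S) := Finite.of_injective (fun e => (e : S → S)) DFunLike.coe_injective
  obtain ⟨e, r, hrd, he⟩ := Nat.exists_eq_pow_mul_and_not_dvd (orderOf_pos τ).ne' p hp.out.ne_one
  have hτG : τ ∈ F.autGroup S := mul_mem hσ hσ'
  have hKp : IsPGroup p (zpowers (τ ^ r)) := by
    rintro ⟨x, hx⟩
    obtain ⟨k, rfl⟩ := Subgroup.mem_zpowers_iff.1 hx
    refine ⟨e, Subtype.ext ?_⟩
    show ((τ ^ r) ^ k) ^ p ^ e = 1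
    rw [← zpow_natCast, ← zpow_mul, mul_comm, zpow_mul, zpow_natCast, ← pow_mul, mul_comm r, ← he,
      pow_orderOf_eq_one, one_zpow]
  obtain ⟨β, -, hβ⟩ := exists_conj_le_autInducedBy
    (fullyAutomized_of_fullyNormalized hS hF (fullyNormalized_top F)) _ hKp
    (Subgroup.zpowers_le.2 (pow_mem hτG r))
  have hfix : (τ ^ r) (h ^ j * d) = h ^ j * d := by
    obtain ⟨g, hg, hgx⟩ := mem_autInducedBy_iff.1 (hβ _ (Subgroup.mem_zpowers _))
    refine β.injective ?_
    have h5 := hgx (β (h ^ j * d))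
    simp only [MulAut.mul_apply, MulAut.inv_apply_self] at h5
    refine Subtype.ext (h5.trans ?_)
    exact congrArg Subtype.val (show (⟨g, hg⟩ : S) * β (h ^ j * d) * (⟨g, hg⟩ : S)⁻¹ = _ by
      rw [Subgroup.mem_center_iff.1 (aut_center β hh') ⟨g, hg⟩, mul_inv_cancel_right])
  have hzr : z ^ r = 1 := by
    rw [pow_apply_of_fixed hτh hτz, mul_eq_left] at hfix
    exact hfix
  have hzp : z ^ p = 1 := by
    rw [hz, (Commute.refl _).mul_pow, inv_pow, hdp, inv_one, one_mul]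
  have hz1 : z = 1 := by
    have h5 := pow_gcd_eq_one.2 ⟨hzr, hzp⟩
    rwa [(hp.out.coprime_iff_not_dvd.2 hrd).symm, pow_one] at h5
  have hd2 : d ^ 2 = 1 := by
    rw [hz, ← mul_inv_rev, inv_eq_one] at hz1
    rw [pow_two, hz1]
  have h5 := pow_gcd_eq_one.2 ⟨hd2, hdp⟩
  rwa [(Nat.coprime_primes Nat.prime_two hp.out).2 (Ne.symm hp2), pow_one] at h5

/-- `p^(1+2) × C` is not the group of a system without normal subgroup all whose essential
subgroups are normal. -/
theorem false_of_pc (hp2 : p ≠ 2) (hS : IsPGroup p S) (hr : Cfsg.SectionalPRankLE p 3 S)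
    (hr2 : ¬ Cfsg.SectionalPRankLE p 2 S) (hF : F.IsSaturated p) (hO : F.core = ⊥)
    (hall : ∀ E, F.IsEssential p E → S ≤ Subgroup.normalizer (E : Set Ω))
    (P : Pair p ↥S) (h : OutPC P) : False := by
  classical
  obtain ⟨c, g, hcp, hcc, hgc, hcg, hZ, hidx, hcomm, ⟨x₀, y₀, hxy⟩, hpow⟩ :=
    pc_facts hS hp2 P h
  have hc1 : c ≠ 1 := fun e => hcg (e ▸ one_mem _)
  by_cases hgp : g ^ p = 1
  swap
  · refine false_of_invariant hS hF hO (pow_mem hgc p) hgp fun Q hQ α hα hm => ?_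
    have hQS : Q ≤ S := hQ.elim (fun e => e.le) fun e => e.1.1
    have hgQ : (g : Ω) ∈ Q := by
      rcases hQ with rfl | hQ
      · exact g.2
      · exact center_mem_centric hQ.1 hgc
    rw [show (⟨((g ^ p : S) : Ω), hm⟩ : Q) = ⟨g, hgQ⟩ ^ p from Subtype.ext rfl, map_pow,
      Subgroup.coe_pow]
    exact coe_mem_zpowers (hpow ⟨_, hQS (α ⟨g, hgQ⟩).2⟩)
  have hexp : ∀ x : S, x ^ p = 1 := fun x => by
    have h1 := hpow x
    rwa [hgp, Subgroup.zpowers_one_eq_bot, Subgroup.mem_bot] at h1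
  have hne : x₀ * y₀ ≠ y₀ * x₀ := fun e => hc1 (hxy ▸ commutatorElement_eq_one_iff_mul_comm.2 e)
  have hg1 : g ≠ 1 := by
    intro e
    refine hr2 (sectional_two_of_cube ?_ hne)
    rw [← Subgroup.card_mul_index (center S), hidx, hZ, e, Subgroup.zpowers_one_eq_bot, bot_sup_eq,
      Nat.card_zpowers, orderOf_eq_prime hcp hc1, ← pow_succ']
  have hZcard : Nat.card (center S) = p ^ 2 := by
    rw [hZ, card_sup_zpowers hgc hgp hg1 hcp hcg]
  have hScard : Nat.card S = p ^ 4 := by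
    rw [← Subgroup.card_mul_index (center S), hidx, hZcard, ← pow_add]
  -- the line of an essential subgroup
  have hline : ∀ E, F.IsEssential p E → ∃ h : S, h ∈ center S ∧ h ∉ zpowers c ∧
      (∀ α ∈ F.autGroup E, ∀ x : E, (x : Ω) ∈ zpowers (h : Ω) →
        ((α x : E) : Ω) ∈ zpowers (h : Ω)) ∧
      ∃ σ ∈ F.autGroup S, σ c = c⁻¹ ∧ σ h = h := by
    intro E hE
    have hn := hall E hE
    have hES := hE.1.1
    have hi := index_eq_prime hS hr hF hE hn
    have hEcard : Nat.card E = p ^ 3 := by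
      have h1 := Subgroup.card_mul_index (E.subgroupOf S)
      rw [hi, hScard, Nat.card_congr (Subgroup.subgroupOfEquivOfLe hES).toEquiv, pow_succ] at h1
      exact mul_right_cancel₀ hp.out.ne_zero h1
    have hab : ∀ x ∈ E, ∀ y ∈ E, x * y = y * x := by
      have hle : center S ≤ E.subgroupOf S := fun z hz => center_mem_centric hE.1 hz
      have hrel : (center S).relIndex (E.subgroupOf S) = p := by
        have h1 := relIndex_mul_index hle
        rw [hi, hidx, pow_two] at h1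
        exact mul_right_cancel₀ hp.out.ne_zero h1
      obtain ⟨e, he, heZ⟩ := SetLike.exists_of_lt
        (lt_of_le_of_ne hle fun e => hp.out.ne_one (by rw [← hrel, e, relIndex_self]))
      intro x hx y hy
      obtain ⟨i, -, z, hz, hxz⟩ := RankThree.exists_pow_mul hrel he heZ (y := ⟨x, hES hx⟩) hx
      obtain ⟨j, -, z', hz', hyz⟩ := RankThree.exists_pow_mul hrel he heZ (y := ⟨y, hES hy⟩) hy
      have h1 : Commute (⟨x, hES hx⟩ : S) ⟨y, hES hy⟩ := by
        rw [hxz, hyz]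
        refine Commute.mul_left (Commute.mul_right ((Commute.refl e).pow_pow i j) ?_) ?_
        · exact Subgroup.mem_center_iff.1 hz' _
        · exact (Subgroup.mem_center_iff.1 hz _).symm
      exact congrArg Subtype.val h1.eq
    obtain ⟨h, hh, hhc, hfix, hinv, f, hf, himg, hfc, hfh⟩ :=
      exists_line hS hF hE hn hab
        (fun x hx => congrArg Subtype.val (hexp ⟨x, hES hx⟩)) hEcard hi
        (center_mem_centric hE.1 hcc) (fun e => hc1 (Subtype.ext e))
        (fun a ha => congrArg Subtype.val (show (⟨a, ha⟩ : S) * c * (⟨a, ha⟩ : S)⁻¹ = c by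
          rw [Subgroup.mem_center_iff.1 hcc, mul_inv_cancel_right]))
        (fun a ha x hx => by
          obtain ⟨i, hi⟩ := (Submonoid.mem_powers_iff _ _).1 (mem_powers_iff_mem_zpowers.2
            (hcomm (⟨x, hES hx⟩ : S)⁻¹ ⟨a, ha⟩))
          refine ⟨i, ?_⟩
          have h1 := congrArg Subtype.val hi
          rw [Subgroup.coe_pow] at h1
          rw [h1]
          simp [commutatorElement_def, mul_assoc])
    refine ⟨⟨h, hES hh⟩, Subgroup.mem_center_iff.2 fun a => Subtype.ext ?_,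
      fun e => hhc (coe_mem_zpowers e), hinv, hf.toAut himg, hf.toAut_mem himg, Subtype.ext ?_,
      Subtype.ext ?_⟩
    · exact mul_inv_eq_iff_eq_mul.1 (hfix a a.2)
    · rw [IsMap.toAut_apply, hfc]
      rfl
    · rw [IsMap.toAut_apply, hfh]
  by_cases hess : ∃ E, F.IsEssential p E
  swap
  · have hSn : F.IsNormal S := isNormal_of_alperin hS hF le_rfl fun Q hQ => by
      obtain rfl := hQ.resolve_right fun e => hess ⟨Q, e⟩
      exact ⟨le_rfl, fun α _ x _ => (α x).2⟩
    exact hc1 (Subtype.ext (Subgroup.mem_bot.1 (hO ▸ IsNormal.le_core hSn c.2)))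
  obtain ⟨E₀, hE₀⟩ := hess
  obtain ⟨h₀, hh₀, hh₀c, -, σ₀, hσ₀, hσ₀c, hσ₀h⟩ := hline E₀ hE₀
  have hspan : zpowers h₀ ⊔ zpowers c = center S := by
    refine Subgroup.eq_of_le_of_card_ge (sup_le (Subgroup.zpowers_le.2 hh₀)
      (Subgroup.zpowers_le.2 hcc)) ?_
    rw [hZcard, sup_comm, card_sup_zpowers hcc hcp hc1 (hexp h₀) hh₀c]
  refine false_of_invariant hS hF hO hh₀ (fun e => hh₀c (e ▸ one_mem _)) fun Q hQ α hα hm => ?_
  rcases hQ with rfl | hQ
  · have hαc : α⁻¹ c ∈ zpowers c := by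
      rw [← hxy, map_commutatorElement, hxy]; exact hcomm _ _
    refine coe_mem_zpowers (x := α h₀) (mem_zpowers_of_inverters hS hF hp2 hcc hcp (aut_center α hh₀)
      (hspan ▸ aut_center α hh₀) hσ₀ (mul_mem (mul_mem hα hσ₀) (inv_mem hα)) hσ₀c hσ₀h ?_ ?_)
    · obtain ⟨k, hk⟩ := Subgroup.mem_zpowers_iff.1 hαc
      rw [MulAut.mul_apply, MulAut.mul_apply, ← hk, map_zpow, hσ₀c, inv_zpow, hk, map_inv,
        MulAut.apply_inv_self]
    · rw [MulAut.mul_apply, MulAut.mul_apply, MulAut.inv_apply_self, hσ₀h]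
  · obtain ⟨h₁, hh₁, hh₁c, hinv, σ₁, hσ₁, hσ₁c, hσ₁h⟩ := hline Q hQ
    have h1 := mem_zpowers_of_inverters hS hF hp2 hcc hcp hh₁ (hspan ▸ hh₁) hσ₀ hσ₁ hσ₀c hσ₀h
      hσ₁c hσ₁h
    have h2 : zpowers h₁ = zpowers h₀ := by
      refine Subgroup.eq_of_le_of_card_ge (Subgroup.zpowers_le.2 h1) ?_
      rw [Nat.card_zpowers, Nat.card_zpowers,
        orderOf_eq_prime (hexp h₀) (fun e => hh₀c (e ▸ one_mem _)),
        orderOf_eq_prime (hexp h₁) (fun e => hh₁c (e ▸ one_mem _))]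
    have h3 := hinv α hα ⟨h₀, hm⟩ (coe_mem_zpowers (h2 ▸ Subgroup.mem_zpowers h₀))
    exact (Subgroup.zpowers_le.2 (coe_mem_zpowers h1)) h3

end CfsgLib.RankThreePair.Fus
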