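import Cfsg.Agent.Lib.RankThreePair.Fusion
import Cfsg.Agent.Lib.RankThreePair.Ext

/-!
Extensions for sides from essential subgroups that are preserved by the automizer of `S`.
-/

set_option autoImplicit false
set_option linter.style.haveILetI false
set_option linter.unusedSectionVars false

namespace CfsgLib.RankThreePair.Fus

open Cfsg Cfsg.FusionSystem Subgroup CfsgLib.Fusion

variable {Ω : Type*} [Group Ω] {S : Subgroup Ω} [Finite S] {p : ℕ} [hp : Fact p.Prime]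
  {F : FusionSystem S}

theorem le_normalizer_of_char {E : Subgroup Ω} (hES : E ≤ S)
    (hc : ∀ φ : MulAut S, φ ∈ F.autGroup S → (E.subgroupOf S).map φ.toMonoidHom = E.subgroupOf S) :
    S ≤ Subgroup.normalizer (E : Set Ω) := by
  intro a ha
  haveI : Finite (E : Set Ω) := (finite_of_le hES : Finite E)
  refine Subgroup.mem_normalizer_fintype fun x hx => ?_
  have hα : MulAut.conj (⟨a, ha⟩ : S) ∈ F.autGroup S :=
    autInducedBy_le_autGroup le_rfl (mem_autInducedBy_iff.2 ⟨a, ha, fun y => rfl⟩)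
  have h1 := (hc _ hα).le (mem_map_of_mem (MulAut.conj (⟨a, ha⟩ : S)).toMonoidHom
    (show (⟨x, hES hx⟩ : S) ∈ E.subgroupOf S from hx))
  exact h1

theorem extends_of_char (hS : IsPGroup p S) (hF : F.IsSaturated p) {E₁ E₂ : Subgroup Ω}
    (hE₁ : F.IsEssential p E₁) {A B : Side p ↥S} (hA : A.E = E₁.subgroupOf S)
    (hB : B.E = E₂.subgroupOf S)
    (hAG : ∀ g : MulAut A.E, g ∈ A.G ↔
      ∃ f, IsMap F E₁ f ∧ ∀ x : A.E, f ((x : S) : Ω) = (((g x : A.E) : S) : Ω))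
    (hn : S ≤ Subgroup.normalizer (E₁ : Set Ω))
    (hc₂ : ∀ φ : MulAut S, φ ∈ F.autGroup S → (E₂.subgroupOf S).map φ.toMonoidHom = E₂.subgroupOf S) :
    A.Extends B := by
  classical
  intro τ hτ hτT
  obtain ⟨f, hf, hfx⟩ := (hAG τ).1 hτ
  have hES := hE₁.1.1
  haveI := finite_of_le hES
  have hmem : ∀ x, ∀ hx : x ∈ E₁, (⟨x, hES hx⟩ : S) ∈ A.E := fun x hx => hA ▸ hx
  have hfE : ∀ x, ∀ hx : x ∈ E₁,
      f x = (((τ ⟨⟨x, hES hx⟩, hmem x hx⟩ : A.E) : S) : Ω) := fun x hx => hfx ⟨⟨x, hES hx⟩, hmem x hx⟩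
  have himg : img E₁ f = E₁ := by
    ext y
    rw [hf.mem_img]
    constructor
    · rintro ⟨x, hx, rfl⟩
      rw [hfE x hx]
      exact (hA ▸ (τ _).2 : ((τ ⟨⟨x, hES hx⟩, hmem x hx⟩ : A.E) : S) ∈ E₁.subgroupOf S)
    · intro hy
      set z : A.E := τ⁻¹ ⟨⟨y, hES hy⟩, hmem y hy⟩
      refine ⟨((z : S) : Ω), (hA ▸ z.2 : (z : S) ∈ E₁.subgroupOf S), ?_⟩
      rw [hfx z, MulAut.apply_inv_self]
  obtain ⟨g, hg, hgE⟩ := receptive_extend (R := S) (receptive_of_fullyNormalized hS hF hE₁.2.1) hf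
    himg hES fun a ha => by
      refine ⟨ha, hn ha, ?_⟩
      obtain ⟨⟨b, hb⟩, hab⟩ := hτT ⟨a, ha⟩
      refine ⟨b, hb, fun x hx => ?_⟩
      have hax : a * x * a⁻¹ ∈ E₁ := ((hn ha) x).1 hx
      have h1 := congrArg Subtype.val (congrArg Subtype.val
        (DFunLike.congr_fun hab (τ ⟨⟨x, hES hx⟩, hmem x hx⟩)))
      rw [MulAut.mul_apply, MulAut.mul_apply, MulAut.inv_apply_self, Side.cj_apply] at h1
      rw [hfE _ hax, hfE x hx]
      refine Eq.trans ?_ (h1.trans rfl)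
      congr 3
  have himgS : img S g = S := eq_of_le_of_card_le hg.img_le hg.card_img.ge
  refine ⟨hg.toAut himgS, fun x => Subtype.ext ?_, fun y hy => ?_⟩
  · exact ((IsMap.toAut_apply hg himgS _).trans
      (hgE _ (hA ▸ x.2 : (x : S) ∈ E₁.subgroupOf S))).trans (hfx x)
  · rw [hB] at hy ⊢
    exact (hc₂ _ (hg.toAut_mem himgS)).le (mem_map_of_mem _ hy)

end CfsgLib.RankThreePair.Fus
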