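import Cfsg.Agent.Lib.RankThreePair.Defs
import Cfsg.Agent.Lib.RankThree.Top

/-!
Essential subgroups normal in a group of rank at most three give sides.
-/

set_option autoImplicit false
set_option linter.style.haveILetI false
set_option linter.unusedSectionVars false

namespace CfsgLib.RankThreePair.Fus

open Cfsg Cfsg.FusionSystem Subgroup CfsgLib.Fusion
open scoped commutatorElement

/-- A `p`-group of automorphisms of a group of order at most `p²` has order at most `p`. -/
theorem card_le_prime {Q : Type*} [Group Q] [Finite Q] {p : ℕ} [hp : Fact p.Prime] {d : ℕ}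
    (hd : d ≤ 2) (hQ : Nat.card Q = p ^ d) (T : Subgroup (MulAut Q)) (hT : IsPGroup p T) :
    Nat.card T ≤ p := by
  classical
  haveI : Finite (MulAut Q) := Finite.of_injective (fun e => (e : Q → Q)) DFunLike.coe_injective
  haveI : Fintype Q := Fintype.ofFinite Q
  by_cases h1 : Subsingleton Q
  · haveI : Subsingleton (MulAut Q) := ⟨fun a b => MulEquiv.ext fun _ => Subsingleton.elim _ _⟩
    rw [Nat.card_of_subsingleton (1 : T)]
    exact hp.out.one_le
  rw [not_subsingleton_iff_nontrivial] at h1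
  have hQp : IsPGroup p Q := IsPGroup.of_card hQ
  have hdvd : p ∣ Nat.card Q := by
    rw [hQ]
    refine dvd_pow_self p fun h0 => ?_
    rw [h0, pow_zero] at hQ
    exact (Finite.one_lt_card (α := Q)).ne' hQ
  obtain ⟨v, hv, hv1⟩ := hT.exists_fixed_point_of_prime_dvd_card_of_fixed_point Q hdvd
    (a := 1) (fun g => map_one (g : MulAut Q))
  have hvfix : ∀ τ : T, (τ : MulAut Q) v = v := hv
  by_cases hz : Subgroup.zpowers v = ⊤
  · haveI : Subsingleton T := ⟨fun a b => Subtype.ext (MulEquiv.ext fun x => by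
      obtain ⟨k, rfl⟩ := Subgroup.mem_zpowers_iff.1 (hz ▸ Subgroup.mem_top x : x ∈ zpowers v)
      rw [map_zpow, map_zpow, hvfix, hvfix])⟩
    rw [Nat.card_of_subsingleton (1 : T)]
    exact hp.out.one_le
  obtain ⟨w, -, hw⟩ := SetLike.exists_of_lt (lt_top_iff_ne_top.2 hz)
  have hgen : Subgroup.closure ({v, w} : Set Q) = ⊤ := by
    have hlt : zpowers v < Subgroup.closure ({v, w} : Set Q) := by
      refine lt_of_le_of_ne (Subgroup.zpowers_le.2 (subset_closure (Or.inl rfl))) fun e => hw ?_
      rw [e]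
      exact subset_closure (Or.inr rfl)
    obtain ⟨i, hi, he⟩ := (Nat.dvd_prime_pow hp.out).1 (hQ ▸ Subgroup.card_subgroup_dvd_card (zpowers v))
    obtain ⟨j, hj, he'⟩ := (Nat.dvd_prime_pow hp.out).1
      (hQ ▸ Subgroup.card_subgroup_dvd_card (Subgroup.closure ({v, w} : Set Q)))
    have h3 : Nat.card (zpowers v) < Nat.card (Subgroup.closure ({v, w} : Set Q)) := by
      by_contra h
      exact hlt.ne (Subgroup.eq_of_le_of_card_ge hlt.le (not_lt.1 h))
    have h0 : 1 ≤ i := by
      by_contra h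
      have : zpowers v = ⊥ := Subgroup.card_eq_one.1 (by rw [he, show i = 0 by omega, pow_zero])
      exact hv1 (Subgroup.zpowers_eq_bot.1 this).symm
    rw [he, he'] at h3
    have h4 := (Nat.pow_lt_pow_iff_right hp.out.one_lt).1 h3
    exact Subgroup.eq_top_of_card_eq _ (by rw [he', hQ]; congr 1; omega)
  have hinj : Function.Injective fun τ : T => (τ : MulAut Q) w := by
    intro a b hab
    refine Subtype.ext (MulEquiv.ext fun x => ?_)
    exact DFunLike.congr_fun (MonoidHom.eq_of_eqOn_dense hgen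
      (f := (a : MulAut Q).toMonoidHom) (g := (b : MulAut Q).toMonoidHom)
      (by
        rintro y (rfl | rfl)
        · exact (hvfix a).trans (hvfix b).symm
        · exact hab)) x
  have hne1 : ∀ τ : T, (τ : MulAut Q) w ≠ 1 := fun τ h => hw (by
    have : w = 1 := (τ : MulAut Q).injective (h.trans (map_one _).symm)
    rw [this]
    exact one_mem _)
  have hlt : Nat.card T < Nat.card Q := by
    haveI : Fintype T := Fintype.ofFinite T
    simp only [Nat.card_eq_fintype_card]
    exact Fintype.card_lt_of_injective_not_surjective _ hinj fun hs => by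
      obtain ⟨τ, hτ⟩ := hs 1
      exact hne1 τ hτ
  obtain ⟨k, hk⟩ := IsPGroup.iff_card.1 hT
  rw [hQ, hk] at hlt
  have h5 := (Nat.pow_lt_pow_iff_right hp.out.one_lt).1 hlt
  rw [hk]
  exact (Nat.pow_le_pow_right hp.out.pos (show k ≤ 1 by omega)).trans (pow_one p).le

variable {Ω : Type*} [Group Ω] {S : Subgroup Ω} [Finite S] {p : ℕ} [hp : Fact p.Prime]
  {F : FusionSystem S} {E : Subgroup Ω}

theorem normalizerIn_eq (hn : S ≤ Subgroup.normalizer (E : Set Ω)) : normalizerIn S E = S :=
  inf_eq_left.2 hn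

theorem card_quot_le (hS : IsPGroup p S) (hr : Cfsg.SectionalPRankLE p 3 S) (hES : E ≤ S) :
    Nat.card (E ⧸ frattini E) ≤ p ^ 3 := by
  haveI := finite_of_le hES
  have hEp : IsPGroup p E := hS.to_le hES
  refine CfsgLib.StructC.SectionalFour.card_le_of_hom hr (Subgroup.inclusion hES)
    (QuotientGroup.mk' (frattini E)) (QuotientGroup.mk'_surjective _) ?_ ?_ ?_
  · rw [(MonoidHom.ker_eq_bot_iff _).2 (Subgroup.inclusion_injective hES)]
    exact bot_le
  · intro a b
    obtain ⟨a, rfl⟩ := QuotientGroup.mk'_surjective _ a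
    obtain ⟨b, rfl⟩ := QuotientGroup.mk'_surjective _ b
    rw [← commutatorElement_eq_one_iff_mul_comm, ← map_commutatorElement]
    exact (QuotientGroup.eq_one_iff _).2 (CfsgLib.RankThree.commutator_mem_frattini hEp a b)
  · intro a
    obtain ⟨a, rfl⟩ := QuotientGroup.mk'_surjective _ a
    rw [← map_pow]
    exact (QuotientGroup.eq_one_iff _).2 (CfsgLib.StructC.pow_mem_frattini hEp a)

/-- An element normalizing an essential subgroup and trivial on the Frattini quotient is inside. -/
theorem mem_of_act_frattiniKer (hS : IsPGroup p S) (hF : F.IsSaturated p) (hE : F.IsEssential p E)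
    (g : normalizerIn S E)
    (hg : RankThree.Top.act S E g ∈ CfsgLib.Invol.FrattiniKernel.frattiniKer E) : (g : Ω) ∈ E := by
  have hES := hE.1.1
  haveI := finite_of_le hES
  have hmem : RankThree.Top.act S E g ∈ F.autGroup E :=
    autInducedBy_le_autGroup hES (mem_autInducedBy_iff.2 ⟨g, g.2.1, fun x => rfl⟩)
  refine mem_of_normalizerMonoidHom_mem_inn hE.1 g.2 ?_
  exact (CfsgLib.Invol.EssentialSmall.exists_pElement hS hF hE).1
    ((CfsgLib.Invol.FrattiniKernel.frattiniKer E).comap (F.autGroup E).subtype) inferInstance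
    ((CfsgLib.Invol.FrattiniKernel.isPGroup_frattiniKer (hS.to_le hES)).comap_of_injective _
      (Subgroup.subtype_injective _)) ⟨_, hmem⟩ hg

/-- An essential subgroup normal in `S` has index `p`. -/
theorem index_eq_prime (hS : IsPGroup p S) (hr : Cfsg.SectionalPRankLE p 3 S)
    (hF : F.IsSaturated p) (hE : F.IsEssential p E) (hn : S ≤ Subgroup.normalizer (E : Set Ω)) :
    (E.subgroupOf S).index = p := by
  classical
  have hES := hE.1.1
  haveI := finite_of_le hES
  have hEp : IsPGroup p E := hS.to_le hES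
  suffices hle : (E.subgroupOf S).index ≤ p by
    obtain ⟨k, hk⟩ := hS.index (E.subgroupOf S)
    have hne : k ≠ 0 := fun h0 => (lt_of_essential hS hF hE).not_ge
      (Subgroup.subgroupOf_eq_top.1 (Subgroup.index_eq_one.1 (by rw [hk, h0, pow_zero])))
    rw [hk] at hle ⊢
    have : k ≤ 1 := (Nat.pow_le_pow_iff_right hp.out.one_lt).1 (hle.trans (pow_one p).ge)
    rw [show k = 1 by omega, pow_one]
  let ι : S →* normalizerIn S E := Subgroup.inclusion (normalizerIn_eq hn).ge
  have h : ∀ (K : Subgroup S), (∀ s ∈ K, (s : Ω) ∈ E) → K.index ≤ p → (E.subgroupOf S).index ≤ p :=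
    fun K hK hi => (Nat.le_of_dvd (Nat.pos_of_ne_zero Subgroup.index_ne_zero_of_finite)
      (Subgroup.index_dvd_of_le (fun s hs => hK s hs))).trans hi
  suffices True by
    obtain ⟨k, hk⟩ := (hEp.to_quotient (frattini E)).exists_card_eq
    have hk3 : k ≤ 3 := (Nat.pow_le_pow_iff_right hp.out.one_lt).1
      (hk ▸ card_quot_le hS hr hES)
    by_cases h3 : k = 3
    · subst h3
      obtain ⟨ε, ρ, hε, hadd, hker, hρ⟩ := RankThree.Top.exists_coord hEp
        (by rw [Subgroup.index_eq_card, hk])
      obtain ⟨-, -, hcard, hiff, -⟩ :=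
        RankThree.Top.image_facts hS hF hE hε hadd hker hρ
      haveI := finite_normalizerIn (S := S) (P := E)
      refine h ((ρ.comp (RankThree.Top.act S E)).comp ι).ker (fun g hg => (hiff (ι g)).1 hg) ?_
      rw [Subgroup.index_ker]
      refine (Nat.le_of_dvd Nat.card_pos (Subgroup.card_dvd_of_le ?_)).trans hcard.le
      rintro _ ⟨g, rfl⟩
      exact ⟨ι g, rfl⟩
    · let toQ : MulAut E →* MulAut (E ⧸ frattini E) :=
        { toFun := fun α => QuotientGroup.congr (frattini E) (frattini E) α
            (Subgroup.characteristic_iff_map_eq.1 inferInstance α)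
          map_one' := MulEquiv.ext fun q => by
            obtain ⟨q, rfl⟩ := QuotientGroup.mk'_surjective _ q
            rfl
          map_mul' := fun α β => MulEquiv.ext fun q => by
            obtain ⟨q, rfl⟩ := QuotientGroup.mk'_surjective _ q
            rfl }
      refine h ((toQ.comp (RankThree.Top.act S E)).comp ι).ker (fun g hg => ?_) ?_
      · refine mem_of_act_frattiniKer hS hF hE (ι g) fun u => ?_
        have h1 := DFunLike.congr_fun hg (QuotientGroup.mk' _ u)
        exact QuotientGroup.eq.1 (show ((u : E) : E ⧸ frattini E) =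
          ((RankThree.Top.act S E (ι g) u : E) : E ⧸ frattini E) from h1.symm)
      · rw [Subgroup.index_ker]
        exact card_le_prime (d := k) (by omega) hk _
          (hS.of_surjective _ (MonoidHom.rangeRestrict_surjective _))
  trivial

/-- An essential subgroup normal in `S` gives a side. -/
theorem exists_side (hS : IsPGroup p S) (hr : Cfsg.SectionalPRankLE p 3 S) (hF : F.IsSaturated p)
    (hE : F.IsEssential p E) (hn : S ≤ Subgroup.normalizer (E : Set Ω)) :
    ∃ A : Side p ↥S, A.E = E.subgroupOf S ∧ ∀ g : MulAut A.E, g ∈ A.G ↔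
      ∃ f, IsMap F E f ∧ ∀ x : A.E, f ((x : S) : Ω) = (((g x : A.E) : S) : Ω) := by
  classical
  have hES := hE.1.1
  haveI := finite_of_le hES
  haveI : Finite (MulAut E) := Finite.of_injective (fun e => (e : E → E)) DFunLike.coe_injective
  have hnorm : (E.subgroupOf S).Normal :=
    ⟨fun x hx s => ((hn s.2) (x : Ω)).1 hx⟩
  let e : ↥(E.subgroupOf S) ≃* E := Subgroup.subgroupOfEquivOfLe hES
  let κ : MulAut ↥(E.subgroupOf S) ≃* MulAut E := MulAut.congr e
  have hκ : ∀ g x, ((κ g (e x) : E) : Ω) = (((g x : E.subgroupOf S) : S) : Ω) := fun g x => by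
    show ((e (g (e.symm (e x))) : E) : Ω) = _
    rw [e.symm_apply_apply]
    rfl
  have hcj : ∀ (s : S) (x : E), ((κ (conjOf _ hnorm s) x : E) : Ω) = s * x * (s : Ω)⁻¹ :=
    fun s x => by
      obtain ⟨x, rfl⟩ := e.surjective x
      rw [hκ, conjOf_apply]
      rfl
  have hrange : (conjOf _ hnorm).range.map κ.toMonoidHom = autInducedBy S E := by
    ext α
    rw [mem_autInducedBy_iff]
    constructor
    · rintro ⟨_, ⟨s, rfl⟩, rfl⟩
      exact ⟨s, s.2, hcj s⟩
    · rintro ⟨g, hg, hgx⟩
      exact ⟨_, ⟨⟨g, hg⟩, rfl⟩, MulEquiv.ext fun x => Subtype.ext ((hcj _ x).trans (hgx x).symm)⟩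
  set G := (F.autGroup E).comap κ.toMonoidHom with hG
  have hGmap : G.map κ.toMonoidHom = F.autGroup E :=
    Subgroup.map_comap_eq_self_of_surjective κ.surjective _
  refine ⟨⟨E.subgroupOf S, hnorm, index_eq_prime hS hr hF hE hn, ?_, G, ?_, ?_, ?_⟩, rfl,
    fun g => ?_⟩
  · intro c hc
    refine hE.1.2 E (isConj_refl hES) ⟨c.2, fun x hx => ?_⟩
    exact congrArg Subtype.val (Subgroup.mem_centralizer_iff.1 hc ⟨x, hES hx⟩ hx)
  · rw [hG, ← Subgroup.map_le_iff_le_comap, hrange]
    exact autInducedBy_le_autGroup hES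
  · obtain ⟨-, R, hR⟩ := fullyAutomized_of_fullyNormalized hS hF hE.2.1
    rw [← Subgroup.relIndex_map_map_of_injective (conjOf _ hnorm).range G
      (f := κ.toMonoidHom) κ.injective, hrange, hGmap]
    have h1 := R.not_dvd_index
    rwa [hR] at h1
  · intro hN
    obtain ⟨h1, -⟩ := CfsgLib.Invol.EssentialSmall.exists_pElement hS hF hE
    have hN' : ((autInducedBy S E).subgroupOf (F.autGroup E)).Normal := ⟨fun a ha b => by
      rw [Subgroup.mem_subgroupOf] at ha ⊢
      rw [← hrange] at ha ⊢
      obtain ⟨a', ha', hae⟩ := ha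
      obtain ⟨b', hb', hbe⟩ : (b : MulAut E) ∈ G.map κ.toMonoidHom := by rw [hGmap]; exact b.2
      have ha'G : a' ∈ G := by
        show κ a' ∈ F.autGroup E
        exact hae.symm ▸ a.2
      refine ⟨b' * a' * b'⁻¹, hN.conj_mem ⟨a', ha'G⟩ ha' ⟨b', hb'⟩, ?_⟩
      rw [map_mul, map_mul, map_inv, hae, hbe]
      rfl⟩
    obtain ⟨g, hg, hgE⟩ := SetLike.exists_of_lt (lt_of_essential hS hF hE)
    refine hgE (mem_of_normalizerMonoidHom_mem_inn hE.1 (u := g) ⟨hg, hn hg⟩ ?_)
    have hm : E.normalizerMonoidHom ⟨g, hn hg⟩ ∈ autInducedBy S E :=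
      mem_autInducedBy_iff.2 ⟨g, hg, fun x => rfl⟩
    exact h1 _ hN' ((isPGroup_autInducedBy hS E).comap_of_injective _
      (Subgroup.subtype_injective _)) ⟨_, autInducedBy_le_autGroup hES hm⟩ hm
  · show κ g ∈ F.autGroup E ↔ _
    constructor
    · intro h
      exact ⟨_, isMap_of_autGroup hES h, fun x =>
        (toFun_aut_apply (κ g) (show ((x : S) : Ω) ∈ E from x.2)).trans (hκ g x)⟩
    · rintro ⟨f, hf, hfx⟩
      refine (autGroup_iff_isMap hES fun x => ?_).2 hf
      obtain ⟨x, rfl⟩ := e.surjective x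
      rw [hκ]
      exact (hfx x).symm

end CfsgLib.RankThreePair.Fus
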